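import Mathlib

/-!
# Nilpotent subgroups of general linear groups: elementary facts

Stabilisers of lines, unipotent elements, and the subgroup containing a nilpotent subgroup.
-/

set_option autoImplicit false

namespace Cfsg.Agent.Lib.PGLNilCover

open Matrix
open scoped commutatorElement

variable {F : Type*} [Field F] {n : ℕ}

/-- The stabiliser of the line through `w`. -/
def lineStab (w : Fin n → F) : Subgroup (GL (Fin n) F) where
  carrier := {g | ∃ c : F, (g : Matrix (Fin n) (Fin n) F) *ᵥ w = c • w}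
  one_mem' := ⟨1, by simp⟩
  mul_mem' := by
    rintro g h ⟨c, hc⟩ ⟨d, hd⟩
    exact ⟨d * c, by rw [Units.val_mul, ← mulVec_mulVec, hd, mulVec_smul, hc, smul_smul]⟩
  inv_mem' := by
    rintro g ⟨c, hc⟩
    have h : ((g⁻¹ : GL (Fin n) F) : Matrix (Fin n) (Fin n) F) *ᵥ
        ((g : Matrix (Fin n) (Fin n) F) *ᵥ w) = w := by
      rw [mulVec_mulVec, ← Units.val_mul, inv_mul_cancel, Units.val_one, one_mulVec]
    rw [hc, mulVec_smul] at h
    by_cases hc0 : c = 0
    · refine ⟨0, ?_⟩
      rw [hc0, zero_smul] at h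
      simp [← h]
    · exact ⟨c⁻¹, by rw [← inv_smul_eq_iff₀ (inv_ne_zero hc0), inv_inv, h]⟩

theorem mem_lineStab {w : Fin n → F} {g : GL (Fin n) F} :
    g ∈ lineStab w ↔ ∃ c : F, (g : Matrix (Fin n) (Fin n) F) *ᵥ w = c • w := Iff.rfl

theorem center_le_lineStab (w : Fin n → F) : Subgroup.center (GL (Fin n) F) ≤ lineStab w := by
  intro z hz
  obtain ⟨a, ha⟩ := GeneralLinearGroup.mem_center_iff_val_mem_range_scalar.mp hz
  refine ⟨a, ?_⟩
  rw [← ha]
  ext i
  simp [scalar_apply, mulVec_diagonal]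

theorem lineStab_smul (w : Fin n → F) {c : F} (hc : c ≠ 0) : lineStab (c • w) = lineStab w := by
  ext g
  simp only [mem_lineStab, mulVec_smul]
  refine ⟨fun ⟨d, hd⟩ => ⟨d, smul_right_injective _ hc ?_⟩, fun ⟨d, hd⟩ => ⟨d, ?_⟩⟩
  · simpa [smul_smul, mul_comm d] using hd
  · rw [hd, smul_smul, smul_smul, mul_comm]

/-- In a finite `p`-group of matrices, a common non-zero fixed vector. -/
theorem exists_fixed_vector [Finite F] {p : ℕ} [Fact p.Prime] [CharP F p] [NeZero n]
    (P : Subgroup (GL (Fin n) F)) (hP : IsPGroup p P) :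
    ∃ v : Fin n → F, v ≠ 0 ∧ ∀ x ∈ P, (x : Matrix (Fin n) (Fin n) F) *ᵥ v = v := by
  letI : MulAction P (Fin n → F) :=
    { smul := fun x v => ((x : GL (Fin n) F) : Matrix (Fin n) (Fin n) F) *ᵥ v
      one_smul := fun v => by
        change ((1 : GL (Fin n) F) : Matrix (Fin n) (Fin n) F) *ᵥ v = v
        simp
      mul_smul := fun x y v => by
        change (((x : GL (Fin n) F) * (y : GL (Fin n) F) : GL (Fin n) F) :
          Matrix (Fin n) (Fin n) F) *ᵥ v = _
        rw [Units.val_mul, ← mulVec_mulVec]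
        rfl }
  have hdvd : p ∣ Nat.card (Fin n → F) := by
    obtain ⟨x, hx⟩ := exists_ne (0 : Fin n → F)
    have : addOrderOf x = p := addOrderOf_eq_prime (by
      ext i
      simp) hx
    exact this ▸ addOrderOf_dvd_natCard x
  obtain ⟨v, hv, hv0⟩ := hP.exists_fixed_point_of_prime_dvd_card_of_fixed_point (Fin n → F) hdvd
    (a := 0) (fun x => mulVec_zero _)
  exact ⟨v, hv0.symm, fun x hx => hv ⟨x, hx⟩⟩

/-- A finite nilpotent group has a normal `p`-subgroup containing all its `p`-elements. -/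
theorem exists_normal_pSubgroup {G : Type*} [Group G] [Finite G] {p : ℕ} [Fact p.Prime]
    (H : Subgroup G) [Group.IsNilpotent H] :
    ∃ P : Subgroup G, P ≤ H ∧ IsPGroup p P ∧
      (∀ h ∈ H, ∀ x ∈ P, h⁻¹ * x * h ∈ P) ∧ ∀ x ∈ H, ∀ k : ℕ, x ^ p ^ k = 1 → x ∈ P := by
  obtain ⟨S⟩ := (inferInstance : Nonempty (Sylow p H))
  haveI hS : (S : Subgroup H).Normal :=
    Sylow.normal_of_normalizerCondition Group.normalizerCondition_of_isNilpotent S
  refine ⟨(S : Subgroup H).map H.subtype, Subgroup.map_subtype_le _, S.2.map _, ?_, ?_⟩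
  · rintro h hh _ ⟨x, hx, rfl⟩
    exact ⟨⟨h, hh⟩⁻¹ * x * ⟨h, hh⟩, SetLike.mem_coe.mpr (by simpa using hS.conj_mem x hx (⟨h, hh⟩ : H)⁻¹), rfl⟩
  · intro x hx k hk
    have hk' : (⟨x, hx⟩ : H) ^ p ^ k = 1 := Subtype.ext hk
    obtain ⟨j, -, hj⟩ := (Nat.dvd_prime_pow Fact.out).mp (orderOf_dvd_of_pow_eq_one hk')
    have hpg : IsPGroup p (Subgroup.zpowers (⟨x, hx⟩ : H)) :=
      IsPGroup.of_card (n := j) (by rw [Nat.card_zpowers, hj])
    obtain ⟨T, hT⟩ := hpg.exists_le_sylow
    haveI := Sylow.unique_of_normal S hS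
    refine ⟨⟨x, hx⟩, ?_, rfl⟩
    have hTS : T = S := Subsingleton.elim _ _
    exact hTS ▸ hT (Subgroup.mem_zpowers _)

/-- A nilpotent subgroup containing a unipotent element with one-dimensional fixed space fixes
that line. -/
theorem le_lineStab [Finite F] {p : ℕ} [Fact p.Prime] [CharP F p] [NeZero n]
    (H : Subgroup (GL (Fin n) F)) [Group.IsNilpotent H] {u : GL (Fin n) F} (hu : u ∈ H) {k : ℕ}
    (huk : u ^ p ^ k = 1) {w : Fin n → F}
    (hfix : ∀ v, (u : Matrix (Fin n) (Fin n) F) *ᵥ v = v → ∃ c : F, v = c • w) :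
    H ≤ lineStab w := by
  obtain ⟨P, -, hP, hPn, hPmem⟩ := exists_normal_pSubgroup (p := p) H
  obtain ⟨v, hv0, hv⟩ := exists_fixed_vector P hP
  have huP := hPmem u hu k huk
  obtain ⟨c, hc⟩ := hfix v (hv u huP)
  have hc0 : c ≠ 0 := fun h => hv0 (by rw [hc, h, zero_smul])
  intro h hh
  have h1 : (u : Matrix (Fin n) (Fin n) F) *ᵥ ((h : Matrix (Fin n) (Fin n) F) *ᵥ v) =
      (h : Matrix (Fin n) (Fin n) F) *ᵥ v := by
    have h2 := hv _ (hPn h hh u huP)
    calc _ = ((u * h : GL (Fin n) F) : Matrix (Fin n) (Fin n) F) *ᵥ v := by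
          rw [Units.val_mul, mulVec_mulVec]
      _ = ((h * (h⁻¹ * u * h) : GL (Fin n) F) : Matrix (Fin n) (Fin n) F) *ᵥ v := by
          rw [show h * (h⁻¹ * u * h) = u * h by group]
      _ = _ := by rw [Units.val_mul, ← mulVec_mulVec, h2]
  obtain ⟨d, hd⟩ := hfix _ h1
  rw [hc, mulVec_smul] at hd
  exact ⟨c⁻¹ * d, by rw [← smul_smul, ← hd, inv_smul_smul₀ hc0]⟩

/-- A unipotent matrix has `p`-power order. -/
theorem pow_eq_one_of_sub_one_pow {p : ℕ} [Fact p.Prime] [CharP F p] [NeZero n]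
    {M : Matrix (Fin n) (Fin n) F} {m : ℕ} (hM : (M - 1) ^ m = 0) : M ^ p ^ m = 1 := by
  have hle : m ≤ p ^ m := (Nat.lt_pow_self (Fact.out : p.Prime).one_lt).le
  calc M ^ p ^ m = ((M - 1) + 1) ^ p ^ m := by rw [sub_add_cancel]
    _ = (M - 1) ^ p ^ m + 1 ^ p ^ m := add_pow_char_pow_of_commute p m (Commute.one_right _)
    _ = 1 := by rw [pow_eq_zero_of_le hle hM, one_pow, zero_add]

/-- An eigenvalue of an element of `p`-power order is `1`. -/
theorem eigenvalue_eq_one {p : ℕ} [Fact p.Prime] [CharP F p] {M : Matrix (Fin n) (Fin n) F}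
    {k : ℕ} (hM : M ^ p ^ k = 1) {v : Fin n → F} (hv : v ≠ 0) {c : F} (hc : M *ᵥ v = c • v) :
    c = 1 := by
  have h : ∀ m : ℕ, (M ^ m) *ᵥ v = c ^ m • v := fun m => by
    induction m with
    | zero => simp
    | succ m ih => rw [pow_succ, ← mulVec_mulVec, hc, mulVec_smul, ih, smul_smul, pow_succ']
  have h1 := h (p ^ k)
  rw [hM, one_mulVec] at h1
  have h2 : c ^ p ^ k = 1 := smul_left_injective F hv (by simpa using h1.symm)
  have h3 : (c - 1) ^ p ^ k = 0 := by rw [sub_pow_char_pow, one_pow, h2, sub_self]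
  exact sub_eq_zero.mp (eq_zero_of_pow_eq_zero h3)

/-- In a nilpotent group, an element of odd order conjugate to its inverse is trivial, and a
self-normalising centraliser is everything. -/
theorem le_centralizer_of_conj {G : Type*} [Group G] [Finite G] (H : Subgroup G)
    [hH : Group.IsNilpotent H] {s : G} (hs : s ∈ H) (hodd : Odd (orderOf s)) (hs1 : s ≠ 1)
    (hconj : ∀ x ∈ H, Commute (x * s * x⁻¹) s → x * s * x⁻¹ = s ∨ x * s * x⁻¹ = s⁻¹) :
    H ≤ Subgroup.centralizer ({s} : Set G) := by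
  set C : Subgroup H := (Subgroup.centralizer ({s} : Set G)).subgroupOf H with hC
  have hmem : ∀ y : H, y ∈ C ↔ Commute (y : G) s := fun y => by
    rw [hC, Subgroup.mem_subgroupOf, Subgroup.mem_centralizer_singleton_iff]
    rfl
  have hsC : (⟨s, hs⟩ : H) ∈ C := (hmem _).mpr (Commute.refl _)
  have hno : ∀ x ∈ H, x * s * x⁻¹ ≠ s⁻¹ := by
    intro x hx hinv
    obtain ⟨N, hN⟩ := (Subgroup.isNilpotent_iff_lowerCentralSeries H).mp hH
    have hall : ∀ k, s ∈ H.lowerCentralSeries k := by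
      intro k
      induction k with
      | zero => simpa using hs
      | succ k ih =>
        rw [Subgroup.lowerCentralSeries_succ]
        have h1 := Subgroup.commutator_mem_commutator ih hx
        have h2 : ⁅s, x⁆ = s ^ 2 := by
          have h3 : x * s⁻¹ * x⁻¹ = s := by
            have := congrArg (fun t : G => t⁻¹) hinv
            simp only [_root_.mul_inv_rev, inv_inv] at this
            rw [mul_assoc]; exact this
          rw [commutatorElement_def, sq, mul_assoc s x, mul_assoc s, h3]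
        rw [h2] at h1
        obtain ⟨j, hj⟩ := hodd
        have h4 : s = (s ^ 2) ^ (j + 1) := by
          rw [← pow_mul, show 2 * (j + 1) = orderOf s + 1 by omega, pow_succ, pow_orderOf_eq_one,
            one_mul]
        rw [h4]
        exact pow_mem h1 _
    have := hall N
    rw [hN, Subgroup.mem_bot] at this
    exact hs1 this
  have hnorm : Subgroup.normalizer (C : Set H) ≤ C := by
    intro x hx
    rw [Subgroup.mem_normalizer_iff] at hx
    have h1 := (hmem _).mp ((hx _).mp hsC)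
    simp only [Subgroup.coe_mul, Subgroup.coe_inv] at h1
    rcases hconj x x.2 h1 with h2 | h2
    · rw [hmem]
      exact mul_inv_eq_iff_eq_mul.mp h2
    · exact absurd h2 (hno x x.2)
  have htop : C = ⊤ := normalizerCondition_iff_only_full_group_self_normalizing.mp
    Group.normalizerCondition_of_isNilpotent C (le_antisymm hnorm Subgroup.le_normalizer)
  intro x hx
  have : (⟨x, hx⟩ : H) ∈ C := by rw [htop]; trivial
  rw [Subgroup.mem_centralizer_singleton_iff]
  exact ((hmem _).mp this).eq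

end Cfsg.Agent.Lib.PGLNilCover
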