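import Cfsg.Agent.Lib.PGLNilCover.Two
import Cfsg.Agent.Lib.H66.NilpotentCover

/-!
# Subgroups of a group between `PSL` and `PGL`
-/

set_option autoImplicit false

namespace Cfsg.Agent.Lib.PGLNilCover

open Matrix
open Cfsg.Agent.Lib.H66.NilpotentCover

variable {F : Type*} [Field F] {n : ℕ}
  {G : Subgroup (GL (Fin n) F ⧸ Subgroup.center (GL (Fin n) F))}

/-- The full preimage of a subgroup. -/
def lift (A : Subgroup G) : Subgroup (GL (Fin n) F) :=
  (A.map G.subtype).comap (QuotientGroup.mk' (Subgroup.center (GL (Fin n) F)))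

/-- The subgroup cut out on `G`. -/
def res (G : Subgroup (GL (Fin n) F ⧸ Subgroup.center (GL (Fin n) F))) (H : Subgroup (GL (Fin n) F)) :
    Subgroup G :=
  (H.map (QuotientGroup.mk' (Subgroup.center (GL (Fin n) F)))).comap G.subtype

theorem mem_lift {A : Subgroup G} {x : GL (Fin n) F} :
    x ∈ lift A ↔ ∃ hx : QuotientGroup.mk' (Subgroup.center (GL (Fin n) F)) x ∈ G,
      (⟨_, hx⟩ : G) ∈ A := by
  constructor
  · rintro ⟨a, ha, hax⟩
    have hx : QuotientGroup.mk' (Subgroup.center (GL (Fin n) F)) x ∈ G := by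
      rw [← hax]; exact a.2
    have e : (⟨_, hx⟩ : G) = a := Subtype.ext hax.symm
    exact ⟨hx, e ▸ ha⟩
  · rintro ⟨hx, hA⟩
    exact ⟨_, hA, rfl⟩

theorem le_res {A : Subgroup G} {H : Subgroup (GL (Fin n) F)} (h : lift A ≤ H) : A ≤ res G H := by
  intro a ha
  obtain ⟨x, hx⟩ := QuotientGroup.mk'_surjective (Subgroup.center (GL (Fin n) F)) (a : GL (Fin n) F ⧸ _)
  exact ⟨x, h ⟨a, ha, hx.symm⟩, hx⟩

theorem isNilpotent_lift (A : Subgroup G) (hA : Group.IsNilpotent A) :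
    Group.IsNilpotent (lift A) := by
  haveI : Group.IsNilpotent (A.map G.subtype) :=
    Group.nilpotent_of_mulEquiv (A.equivMapOfInjective G.subtype G.subtype_injective)
  refine Subgroup.isNilpotent_of_ker_le_center
    (((QuotientGroup.mk' (Subgroup.center (GL (Fin n) F))).comp (lift A).subtype).codRestrict
      (A.map G.subtype) (fun x => x.2)) ?_
  intro x hx
  rw [MonoidHom.mem_ker] at hx
  have h1 : ((x : GL (Fin n) F) : GL (Fin n) F ⧸ Subgroup.center (GL (Fin n) F)) = 1 :=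
    congrArg Subtype.val hx
  rw [QuotientGroup.eq_one_iff] at h1
  exact Subgroup.mem_center_iff.mpr fun y => Subtype.ext (Subgroup.mem_center_iff.mp h1 y)

/-- The element of `GL` given by a matrix of determinant `1`. -/
def ofDetOne (M : Matrix (Fin n) (Fin n) F) (h : M.det = 1) : GL (Fin n) F :=
  Matrix.SpecialLinearGroup.toGL ⟨M, h⟩

@[simp] theorem coe_ofDetOne (M : Matrix (Fin n) (Fin n) F) (h : M.det = 1) :
    (ofDetOne M h : Matrix (Fin n) (Fin n) F) = M := rfl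

section

variable (hG : ((Matrix.SpecialLinearGroup.toGL :
    Matrix.SpecialLinearGroup (Fin n) F →* GL (Fin n) F).range).map
      (QuotientGroup.mk' (Subgroup.center (GL (Fin n) F))) ≤ G)

include hG

theorem mk_mem {x : GL (Fin n) F} (hx : (x : Matrix (Fin n) (Fin n) F).det = 1) :
    QuotientGroup.mk' (Subgroup.center (GL (Fin n) F)) x ∈ G :=
  hG ⟨x, ⟨⟨x, hx⟩, Units.ext rfl⟩, rfl⟩

theorem res_ne_top {H : Subgroup (GL (Fin n) F)} (hZ : Subgroup.center (GL (Fin n) F) ≤ H)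
    {x : GL (Fin n) F} (hx : (x : Matrix (Fin n) (Fin n) F).det = 1) (hxH : x ∉ H) :
    res G H ≠ ⊤ := by
  intro h
  obtain ⟨y, hy, hyx⟩ := (h ▸ Subgroup.mem_top _ : (⟨_, mk_mem hG hx⟩ : G) ∈ res G H)
  apply hxH
  have h1 : y⁻¹ * x ∈ Subgroup.center (GL (Fin n) F) := QuotientGroup.eq.mp hyx
  have := mul_mem hy (hZ h1)
  rwa [mul_inv_cancel_left] at this

variable {𝓐 : Finset (Subgroup G)} (h𝓐 : IsMinCover 𝓐)

include h𝓐

theorem exists_member {x : GL (Fin n) F} (hx : (x : Matrix (Fin n) (Fin n) F).det = 1) :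
    ∃ A ∈ 𝓐, x ∈ lift A := by
  obtain ⟨A, hA, hxA⟩ := h𝓐.1.2 ⟨_, mk_mem hG hx⟩
  exact ⟨A, hA, mem_lift.mpr ⟨_, hxA⟩⟩

theorem member_eq [Finite F] {H : Subgroup (GL (Fin n) F)}
    (hZ : Subgroup.center (GL (Fin n) F) ≤ H)
    {x : GL (Fin n) F} (hx : (x : Matrix (Fin n) (Fin n) F).det = 1) (hxH : x ∉ H)
    {A B : Subgroup G} (hA : A ∈ 𝓐) (hB : B ∈ 𝓐) (hAH : lift A ≤ H) (hBH : lift B ≤ H) : A = B :=
  h𝓐.eq_of_le (res_ne_top hG hZ hx hxH) hA hB (le_res hAH) (le_res hBH)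

end

end Cfsg.Agent.Lib.PGLNilCover
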