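import Cfsg.Agent.Lib.PGLNilCover.Cover

/-!
# Degree at least three
-/

set_option autoImplicit false

namespace Cfsg.Agent.Lib.PGLNilCover

open Matrix
open Cfsg.Agent.Lib.H66.NilpotentCover

variable {F : Type*} [Field F]

/-- The standard regular unipotent matrix. -/
def regUni (F : Type*) [Field F] (n : ℕ) : Matrix (Fin n) (Fin n) F :=
  Matrix.of fun i j => if j = i ∨ (j : ℕ) = i + 1 then 1 else 0

theorem regUni_upper (n : ℕ) : (regUni F n).IsUpperTriangular := by
  intro i j hij
  simp only [id_eq] at hij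
  have : ¬ (j = i ∨ (j : ℕ) = i + 1) := by
    rintro (h | h)
    · exact absurd h hij.ne
    · have := Fin.lt_def.mp hij; omega
  simp [regUni, this]

theorem det_regUni (n : ℕ) : (regUni F n).det = 1 := by
  rw [det_of_isUpperTriangular (regUni_upper n)]
  simp [regUni]

theorem regUni_sub_one_pow (n : ℕ) : (regUni F n - 1) ^ n = 0 := by
  have h := Matrix.aeval_self_charpoly (regUni F n)
  rw [charpoly_of_isUpperTriangular _ (regUni_upper n)] at h
  simpa [regUni, Finset.prod_const] using h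

theorem regUni_mulVec {n : ℕ} (v : Fin n → F) {i j : Fin n} (hij : (j : ℕ) = i + 1) :
    (regUni F n *ᵥ v) i = v i + v j := by
  have hne : i ≠ j := fun h => by rw [h] at hij; omega
  rw [mulVec, dotProduct]
  rw [Finset.sum_eq_add (a := i) (b := j) hne]
  · simp [regUni, hij]
  · intro c _ ⟨hci, hcj⟩
    have : ¬ (c = i ∨ (c : ℕ) = i + 1) := by
      rintro (h | h)
      · exact hci h
      · exact hcj (Fin.ext (by omega))
    simp [regUni, this]
  · simp
  · simp

theorem no_cover_high [Finite F] (k : ℕ)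
    {G : Subgroup (GL (Fin (k + 3)) F ⧸ Subgroup.center (GL (Fin (k + 3)) F))}
    (hG : ((Matrix.SpecialLinearGroup.toGL :
      Matrix.SpecialLinearGroup (Fin (k + 3)) F →* GL (Fin (k + 3)) F).range).map
        (QuotientGroup.mk' (Subgroup.center (GL (Fin (k + 3)) F))) ≤ G)
    {𝓐 : Finset (Subgroup G)} (h𝓐 : IsMinCover 𝓐) (hnil : ∀ A ∈ 𝓐, Group.IsNilpotent A) :
    False := by
  classical
  obtain ⟨p, _⟩ := CharP.exists F
  haveI : Fact p.Prime := ⟨CharP.char_is_prime F p⟩
  set σ : Fin (k + 3) ≃ Fin (k + 3) := Equiv.swap 1 2 with hσ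
  set U : Matrix (Fin (k + 3)) (Fin (k + 3)) F := regUni F (k + 3) with hU
  set Y : Matrix (Fin (k + 3)) (Fin (k + 3)) F := Matrix.reindexAlgEquiv F F σ U with hY
  have hUd : U.det = 1 := det_regUni _
  have hYd : Y.det = 1 := by rw [hY, Matrix.det_reindexAlgEquiv, hUd]
  have hUp : U ^ p ^ (k + 3) = 1 := pow_eq_one_of_sub_one_pow (regUni_sub_one_pow _)
  have hYp : Y ^ p ^ (k + 3) = 1 := by rw [hY, ← map_pow, hUp, map_one]
  set u := ofDetOne U hUd with hu
  set y := ofDetOne Y hYd with hy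
  have hup : u ^ p ^ (k + 3) = 1 := Units.ext (by rw [Units.val_pow_eq_pow_val]; exact hUp)
  have hyp : y ^ p ^ (k + 3) = 1 := Units.ext (by rw [Units.val_pow_eq_pow_val]; exact hYp)
  set e : Fin (k + 3) → F := Pi.single 0 1 with he
  have hYmul : ∀ v : Fin (k + 3) → F, ∀ i, (Y *ᵥ v) (σ i) = (U *ᵥ (fun j => v (σ j))) i := by
    intro v i
    rw [mulVec, dotProduct, mulVec, dotProduct, ← σ.sum_comp]
    refine Finset.sum_congr rfl fun j _ => ?_
    simp [hY, Matrix.reindexAlgEquiv_apply, Matrix.reindex_apply]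
  have hσ0 : σ 0 = 0 := Equiv.swap_apply_of_ne_of_ne
    (by simp [Fin.ext_iff]) (by simp [Fin.ext_iff, Fin.val_two, Nat.mod_eq_of_lt (show 2 < k + 3 by omega)])
  -- shifts
  have hUL : ∀ v : Fin (k + 3) → F, (∀ i : Fin (k + 3), i ≠ 0 → (U *ᵥ v) i = v i) →
      ∀ j : Fin (k + 3), 2 ≤ (j : ℕ) → v j = 0 := by
    intro v hv j hj
    have h1 := hv ⟨j - 1, by omega⟩ (fun h => by
      have := congrArg Fin.val h
      simp at this
      omega)
    rw [hU, regUni_mulVec v (j := j) (by simp; omega)] at h1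
    simpa using h1
  have hUfix : ∀ v : Fin (k + 3) → F, U *ᵥ v = v → ∃ c : F, v = c • e := by
    intro v hv
    refine ⟨v 0, funext fun j => ?_⟩
    rcases Nat.lt_or_ge (j : ℕ) 1 with hj | hj
    · have : j = 0 := Fin.ext (by rw [Fin.val_zero]; omega)
      subst this
      simp [he]
    · have h1 := congrFun hv ⟨j - 1, by omega⟩
      rw [hU, regUni_mulVec v (j := j) (by simp; omega)] at h1
      have h2 : v j = 0 := by simpa using h1
      have hj0 : j ≠ 0 := fun h => by simp [h] at hj
      simp [he, h2, hj0]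
  have hYfix : ∀ v : Fin (k + 3) → F, Y *ᵥ v = v → ∃ c : F, v = c • e := by
    intro v hv
    obtain ⟨c, hc⟩ := hUfix (fun j => v (σ j)) (funext fun i => by rw [← hYmul, hv])
    refine ⟨c, funext fun j => ?_⟩
    have h1 := congrFun hc (σ.symm j)
    simp only [Equiv.apply_symm_apply] at h1
    rw [h1]
    by_cases hj : j = 0
    · rw [hj, show σ.symm 0 = 0 from by rw [Equiv.symm_apply_eq, hσ0]]
    · have hj' : σ.symm j ≠ 0 := fun h => hj (by rw [Equiv.symm_apply_eq] at h; rw [h, hσ0])
      simp [he, hj, hj']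
  -- an element moving the line
  set M : Matrix (Fin (k + 3)) (Fin (k + 3)) F := Matrix.transvection 1 0 1 with hM
  have h10 : (1 : Fin (k + 3)) ≠ 0 := by simp
  have hMd : M.det = 1 := by rw [hM, Matrix.det_transvection_of_ne _ _ h10]
  have hxH : ofDetOne M hMd ∉ lineStab e := by
    rintro ⟨c, hc⟩
    have h1 := congrFun hc 1
    rw [coe_ofDetOne, he, mulVec_single_one] at h1
    simp [hM, Matrix.transvection, Matrix.col_apply] at h1
  obtain ⟨A, hA, huA⟩ := exists_member hG h𝓐 (x := u) hUd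
  obtain ⟨B, hB, hyB⟩ := exists_member hG h𝓐 (x := y) hYd
  haveI := isNilpotent_lift A (hnil A hA)
  haveI := isNilpotent_lift B (hnil B hB)
  have hAB : A = B := member_eq hG h𝓐 (center_le_lineStab e) (x := ofDetOne M hMd) hMd hxH hA hB
    (le_lineStab (lift A) huA hup hUfix) (le_lineStab (lift B) hyB hyp hYfix)
  subst hAB
  -- a common fixed vector modulo the line
  obtain ⟨P, hPA, hP, -, hPmem⟩ := exists_normal_pSubgroup (p := p) (lift A)
  have huP := hPmem u huA _ hup
  have hyP := hPmem y hyB _ hyp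
  set L : Submodule F (Fin (k + 3) → F) := Submodule.span F {e} with hL
  have hLmap : ∀ x : P, L ≤ L.comap (Matrix.mulVecLin ((x : GL (Fin (k + 3)) F) :
      Matrix (Fin (k + 3)) (Fin (k + 3)) F)) := by
    intro x
    rw [hL, Submodule.span_singleton_le_iff_mem, Submodule.mem_comap, Matrix.mulVecLin_apply]
    obtain ⟨c, hc⟩ := le_lineStab (lift A) huA hup hUfix (hPA x.2)
    rw [hc]
    exact Submodule.smul_mem _ _ (Submodule.mem_span_singleton_self _)
  letI : MulAction P ((Fin (k + 3) → F) ⧸ L) :=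
    { smul := fun x q => L.mapQ L _ (hLmap x) q
      one_smul := fun q => by
        induction q using Submodule.Quotient.induction_on with
        | _ v =>
          change Submodule.Quotient.mk _ = Submodule.Quotient.mk v
          simp
      mul_smul := fun x x' q => by
        induction q using Submodule.Quotient.induction_on with
        | _ v =>
          change Submodule.Quotient.mk _ = Submodule.Quotient.mk _
          simp [mulVec_mulVec] }
  have hmk : ∀ v, (Submodule.Quotient.mk v : (Fin (k + 3) → F) ⧸ L) = 0 ↔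
      ∀ j : Fin (k + 3), j ≠ 0 → v j = 0 := by
    intro v
    rw [Submodule.Quotient.mk_eq_zero, hL, Submodule.mem_span_singleton]
    refine ⟨?_, fun h => ⟨v 0, funext fun j => ?_⟩⟩
    · rintro ⟨a, rfl⟩ j hj
      simp [he, hj]
    · by_cases hj : j = 0
      · subst hj; simp [he]
      · simp [he, hj, h j hj]
  have hne : (Submodule.Quotient.mk (Pi.single 1 1 : Fin (k + 3) → F) :
      (Fin (k + 3) → F) ⧸ L) ≠ 0 := fun h => by
    have := (hmk _).mp h 1 h10
    simp at this
  haveI : Finite ((Fin (k + 3) → F) ⧸ L) :=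
    Finite.of_surjective _ (Submodule.Quotient.mk_surjective L)
  have hdvd : p ∣ Nat.card ((Fin (k + 3) → F) ⧸ L) := by
    have h1 := addOrderOf_eq_prime (p := p)
      (x := (Submodule.Quotient.mk (Pi.single 1 1 : Fin (k + 3) → F) : (Fin (k + 3) → F) ⧸ L))
      (by rw [← Nat.cast_smul_eq_nsmul F, CharP.cast_eq_zero, zero_smul]) hne
    exact h1 ▸ addOrderOf_dvd_natCard _
  obtain ⟨q, hq, hq0⟩ := hP.exists_fixed_point_of_prime_dvd_card_of_fixed_point
    ((Fin (k + 3) → F) ⧸ L) hdvd (a := 0) (fun x => map_zero (L.mapQ L _ (hLmap x)))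
  obtain ⟨v, rfl⟩ := Submodule.Quotient.mk_surjective L q
  have hfixq : ∀ x ∈ P, ∀ j : Fin (k + 3), j ≠ 0 →
      ((x : Matrix (Fin (k + 3)) (Fin (k + 3)) F) *ᵥ v) j = v j := by
    intro x hx j hj
    have h1 : (Submodule.Quotient.mk ((x : Matrix (Fin (k + 3)) (Fin (k + 3)) F) *ᵥ v) :
        (Fin (k + 3) → F) ⧸ L) = Submodule.Quotient.mk v := hq ⟨x, hx⟩
    rw [← sub_eq_zero, ← Submodule.Quotient.mk_sub, hmk] at h1
    exact sub_eq_zero.mp (h1 j hj)
  have h2 := hUL v (hfixq u huP)
  have h3 := hUL (fun j => v (σ j)) (fun i hi => by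
    rw [← hYmul]
    exact hfixq y hyP _ (fun h => hi (σ.injective (h.trans hσ0.symm))))
  have hv1 : v 1 = 0 := by
    have := h3 2 (by simp [Fin.val_two, Nat.mod_eq_of_lt (show 2 < k + 3 by omega)])
    rwa [hσ, Equiv.swap_apply_right] at this
  refine hq0.symm ((hmk v).mpr fun j hj => ?_)
  rcases Nat.lt_or_ge (j : ℕ) 2 with hj2 | hj2
  · have : j = 1 := Fin.ext (by
      have : (j : ℕ) ≠ 0 := fun h => hj (Fin.ext h)
      simp; omega)
    rw [this, hv1]
  · exact h2 j hj2

end Cfsg.Agent.Lib.PGLNilCover
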