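import Cfsg.Agent.Lib.PGLNilCover.Cover

/-!
# Degree two
-/

set_option autoImplicit false

namespace Cfsg.Agent.Lib.PGLNilCover

open Matrix
open Cfsg.Agent.Lib.H66.NilpotentCover
open scoped commutatorElement

variable {F : Type*} [Field F]

/-- Upper transvection. -/
def upT (b : F) : GL (Fin 2) F := ofDetOne !![1, b; 0, 1] (by simp [Matrix.det_fin_two])

/-- Lower transvection. -/
def lowT (b : F) : GL (Fin 2) F := ofDetOne !![1, 0; b, 1] (by simp [Matrix.det_fin_two])

/-- Diagonal element of determinant `1`. -/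
def dia (a : F) (ha : a ≠ 0) : GL (Fin 2) F :=
  ofDetOne !![a, 0; 0, a⁻¹] (by simp [Matrix.det_fin_two, ha])

theorem det_upT (b : F) : (upT b : Matrix (Fin 2) (Fin 2) F).det = 1 := by
  simp [upT, Matrix.det_fin_two]

theorem det_lowT (b : F) : (lowT b : Matrix (Fin 2) (Fin 2) F).det = 1 := by
  simp [lowT, Matrix.det_fin_two]

theorem det_dia (a : F) (ha : a ≠ 0) : (dia a ha : Matrix (Fin 2) (Fin 2) F).det = 1 := by
  simp [dia, Matrix.det_fin_two, ha]

theorem offdiag_of_comm {a : F} (ha : a ≠ 0) (ha2 : a * a ≠ 1) {x : GL (Fin 2) F}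
    (h : Commute x (dia a ha)) :
    (x : Matrix (Fin 2) (Fin 2) F) 0 1 = 0 ∧ (x : Matrix (Fin 2) (Fin 2) F) 1 0 = 0 := by
  have h1 : (x : Matrix (Fin 2) (Fin 2) F) * !![a, 0; 0, a⁻¹] =
      !![a, 0; 0, a⁻¹] * (x : Matrix (Fin 2) (Fin 2) F) := congrArg Units.val h.eq
  have h01 := congrFun (congrFun h1 0) 1
  have h10 := congrFun (congrFun h1 1) 0
  simp [Matrix.mul_apply, Fin.sum_univ_two] at h01 h10
  field_simp at h01 h10
  constructor
  · by_contra hx
    exact ha2 (mul_left_cancel₀ hx (by linear_combination -h01))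
  · by_contra hx
    exact ha2 (mul_left_cancel₀ hx (by linear_combination h10))

theorem conj_dia {a : F} (ha : a ≠ 0) (ha2 : a * a ≠ 1) {x : GL (Fin 2) F}
    (hc : Commute (x * dia a ha * x⁻¹) (dia a ha)) :
    x * dia a ha * x⁻¹ = dia a ha ∨ x * dia a ha * x⁻¹ = (dia a ha)⁻¹ := by
  obtain ⟨h01, h10⟩ := offdiag_of_comm ha ha2 hc
  set N : Matrix (Fin 2) (Fin 2) F := ((x * dia a ha * x⁻¹ : GL (Fin 2) F) :
    Matrix (Fin 2) (Fin 2) F) with hN
  have htr : N 0 0 + N 1 1 = a + a⁻¹ := by
    have : N.trace = (dia a ha : Matrix (Fin 2) (Fin 2) F).trace := by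
      rw [hN, Units.val_mul, Units.val_mul, Matrix.trace_units_conj]
    simpa [Matrix.trace_fin_two, dia] using this
  have hdet : N 0 0 * N 1 1 = 1 := by
    have : N.det = 1 := by
      rw [hN, Units.val_mul, Units.val_mul, Matrix.det_units_conj, det_dia]
    simpa [Matrix.det_fin_two, h01, h10] using this
  have hinv : (dia a ha)⁻¹ = dia a⁻¹ (inv_ne_zero ha) := by
    refine inv_eq_of_mul_eq_one_right (Units.ext ?_)
    ext i j
    fin_cases i <;> fin_cases j <;> simp [dia, Matrix.mul_apply, Fin.sum_univ_two, ha]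
  have key : (N 0 0 - a) * (N 0 0 - a⁻¹) = 0 := by
    have : a * a⁻¹ = 1 := mul_inv_cancel₀ ha
    linear_combination this + N 0 0 * htr - hdet
  rcases mul_eq_zero.mp key with h | h
  · left
    have h00 := sub_eq_zero.mp h
    have h11 : N 1 1 = a⁻¹ := by linear_combination htr - h00
    refine Units.ext ?_
    rw [← hN]
    ext i j
    fin_cases i <;> fin_cases j <;> simp [dia, h00, h11, h01, h10]
  · right
    have h00 := sub_eq_zero.mp h
    have h11 : N 1 1 = a := by linear_combination htr - h00
    rw [hinv]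
    refine Units.ext ?_
    rw [← hN]
    ext i j
    fin_cases i <;> fin_cases j <;> simp [dia, h00, h11, h01, h10]

theorem not_nilpotent_pair (H : Subgroup (GL (Fin 2) F)) [hH : Group.IsNilpotent H]
    (f : F → GL (Fin 2) F) (hinj : ∀ b, f b = 1 → b = 0) (h1 : f 1 ∈ H) {s : GL (Fin 2) F}
    (hs : s ∈ H) {c : F} (hc : c ≠ 0) (hf : ∀ b, ⁅f b, s⁆ = f (c * b)) : False := by
  obtain ⟨N, hN⟩ := (Subgroup.isNilpotent_iff_lowerCentralSeries H).mp hH
  have hall : ∀ k, f (c ^ k) ∈ H.lowerCentralSeries k := by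
    intro k
    induction k with
    | zero => simpa using h1
    | succ k ih =>
      rw [Subgroup.lowerCentralSeries_succ, pow_succ', ← hf]
      exact Subgroup.commutator_mem_commutator ih hs
  have := hall N
  rw [hN, Subgroup.mem_bot] at this
  exact pow_ne_zero _ hc (hinj _ this)

theorem upT_pow [Finite F] {p : ℕ} [Fact p.Prime] [CharP F p] (b : F) : upT b ^ p ^ 2 = 1 := by
  refine Units.ext ?_
  rw [Units.val_pow_eq_pow_val, Units.val_one]
  refine pow_eq_one_of_sub_one_pow ?_
  ext i j
  fin_cases i <;> fin_cases j <;> simp [upT, sq, Matrix.mul_apply, Fin.sum_univ_two]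

theorem lowT_pow [Finite F] {p : ℕ} [Fact p.Prime] [CharP F p] (b : F) : lowT b ^ p ^ 2 = 1 := by
  refine Units.ext ?_
  rw [Units.val_pow_eq_pow_val, Units.val_one]
  refine pow_eq_one_of_sub_one_pow ?_
  ext i j
  fin_cases i <;> fin_cases j <;> simp [lowT, sq, Matrix.mul_apply, Fin.sum_univ_two]

theorem upT_fix {v : Fin 2 → F} (h : (upT (1 : F) : Matrix (Fin 2) (Fin 2) F) *ᵥ v = v) :
    v 1 = 0 := by
  have := congrFun h 0
  simpa [upT, mulVec, dotProduct, Fin.sum_univ_two] using this

theorem lowT_fix {v : Fin 2 → F} (h : (lowT (1 : F) : Matrix (Fin 2) (Fin 2) F) *ᵥ v = v) :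
    v 0 = 0 := by
  have := congrFun h 1
  simpa [lowT, mulVec, dotProduct, Fin.sum_univ_two] using this

variable [Finite F]
  {G : Subgroup (GL (Fin 2) F ⧸ Subgroup.center (GL (Fin 2) F))}
  (hG : ((Matrix.SpecialLinearGroup.toGL :
    Matrix.SpecialLinearGroup (Fin 2) F →* GL (Fin 2) F).range).map
      (QuotientGroup.mk' (Subgroup.center (GL (Fin 2) F))) ≤ G)
  {𝓐 : Finset (Subgroup G)} (h𝓐 : IsMinCover 𝓐) (hnil : ∀ A ∈ 𝓐, Group.IsNilpotent A)

include hG h𝓐 hnil in
theorem false_of_dvd_sub_one {p : ℕ} [Fact p.Prime] [CharP F p] {r : ℕ} (hr : r.Prime) (hr2 : r ≠ 2)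
    (hdvd : r ∣ Nat.card F - 1) : False := by
  classical
  cases nonempty_fintype F
  haveI := Fact.mk hr
  have hu : r ∣ Nat.card Fˣ := by rwa [Nat.card_units]
  obtain ⟨a, hao⟩ := exists_prime_orderOf_dvd_card' r hu
  have ha : (a : F) ≠ 0 := a.ne_zero
  have ha2 : (a : F) * a ≠ 1 := fun h => by
    have h1 : a ^ 2 = 1 := by rw [sq]; exact Units.ext h
    have h2 := Nat.le_of_dvd (by norm_num) (orderOf_dvd_of_pow_eq_one h1)
    rw [hao] at h2
    exact hr2 (le_antisymm h2 hr.two_le)
  set s := dia (a : F) ha with hs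
  have hso : orderOf s = r := by
    refine orderOf_eq_prime ?_ ?_
    · refine Units.ext ?_
      rw [Units.val_pow_eq_pow_val, Units.val_one]
      have e : (s : Matrix (Fin 2) (Fin 2) F) = diagonal ![(a : F), (a : F)⁻¹] := by
        ext i j
        fin_cases i <;> fin_cases j <;> simp [hs, dia]
      have har : (a : F) ^ r = 1 := by
        rw [← Units.val_pow_eq_pow_val, ← hao, pow_orderOf_eq_one, Units.val_one]
      rw [e, diagonal_pow, ← diagonal_one]
      congr 1
      ext i
      fin_cases i <;> simp [har]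
    · intro h
      have h1 := congrArg (fun g : GL (Fin 2) F => (g : Matrix (Fin 2) (Fin 2) F) 0 0) h
      simp [hs, dia] at h1
      exact ha2 (by simp [h1])
  set e0 : Fin 2 → F := ![1, 0] with he0
  obtain ⟨A, hA, hsA⟩ := exists_member hG h𝓐 (det_dia (a : F) ha)
  obtain ⟨B, hB, hTB⟩ := exists_member hG h𝓐 (det_upT (1 : F))
  haveI := isNilpotent_lift A (hnil A hA)
  haveI := isNilpotent_lift B (hnil B hB)
  have hAC : lift A ≤ Subgroup.centralizer ({s} : Set (GL (Fin 2) F)) := by
    refine le_centralizer_of_conj (lift A) hsA ?_ ?_ (fun x _ hc => conj_dia ha ha2 hc)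
    · rw [hso]; exact hr.odd_of_ne_two hr2
    · intro h; rw [h, orderOf_one] at hso; exact hr.ne_one hso.symm
  have hAe : lift A ≤ lineStab e0 := fun x hx => by
    have hd := (offdiag_of_comm ha ha2 (Subgroup.mem_centralizer_singleton_iff.mp (hAC hx))).2
    refine ⟨(x : Matrix (Fin 2) (Fin 2) F) 0 0, ?_⟩
    ext i
    fin_cases i <;> simp [he0, mulVec, dotProduct, Fin.sum_univ_two, hd]
  have hBe : lift B ≤ lineStab e0 := le_lineStab (lift B) hTB (upT_pow 1) fun v hv => ⟨v 0, by
    ext i
    fin_cases i <;> simp [he0, upT_fix hv]⟩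
  have hne : lowT (1 : F) ∉ lineStab e0 := by
    rintro ⟨c, hc⟩
    have := congrFun hc 1
    simp [lowT, he0, mulVec, dotProduct, Fin.sum_univ_two] at this
  have hAB : A = B := member_eq hG h𝓐 (center_le_lineStab _) (det_lowT 1) hne hA hB hAe hBe
  subst hAB
  have := (offdiag_of_comm ha ha2 (Subgroup.mem_centralizer_singleton_iff.mp (hAC hTB))).1
  simp [upT] at this

/-- The subgroups used in the smaller cover: line stabilisers and centralisers of elements of
order `r` and determinant `1`. -/
def IsSpecial (r : ℕ) (H : Subgroup (GL (Fin 2) F)) : Prop :=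
  (∃ w : Fin 2 → F, w ≠ 0 ∧ H = lineStab w) ∨
    ∃ t : GL (Fin 2) F, (t : Matrix (Fin 2) (Fin 2) F).det = 1 ∧ orderOf t = r ∧
      H = Subgroup.centralizer ({t} : Set (GL (Fin 2) F))

include hG h𝓐 hnil in
theorem false_of_dvd_add_one {p : ℕ} [Fact p.Prime] [CharP F p] {r : ℕ} (hr : r.Prime) (hr2 : r ≠ 2)
    (hdvd : r ∣ Nat.card F + 1) (hq : 4 ≤ Nat.card F) : False := by
  classical
  cases nonempty_fintype F
  haveI := Fact.mk hr
  have hrq : ¬ r ∣ Nat.card F - 1 := fun h => by
    have h1 := Nat.dvd_sub hdvd h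
    rw [show Nat.card F + 1 - (Nat.card F - 1) = 2 by omega] at h1
    exact hr2 (le_antisymm (Nat.le_of_dvd (by norm_num) h1) hr.two_le)
  have hrp : r ≠ p := by
    rintro rfl
    obtain ⟨⟨k, hk0⟩, -, hk⟩ := FiniteField.card F r
    rw [← Nat.card_eq_fintype_card] at hk
    have h1 : r ∣ Nat.card F := hk ▸ dvd_pow_self r hk0.ne'
    exact hr.not_dvd_one ((Nat.dvd_add_right h1).mp hdvd)
  obtain ⟨a, ha, ha2⟩ : ∃ a : F, a ≠ 0 ∧ a * a ≠ 1 := by
    by_contra! h
    have hsub : (Finset.univ : Finset F) ⊆ {0, 1, -1} := fun x _ => by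
      by_cases hx : x = 0
      · simp [hx]
      · rcases mul_self_eq_one_iff.mp (h x hx) with h1 | h1 <;> simp [h1]
    have h1 := (Finset.card_le_card hsub).trans Finset.card_le_three
    rw [Finset.card_univ, ← Nat.card_eq_fintype_card] at h1
    omega
  set s := dia a ha with hs
  obtain ⟨As, hAs, hsA⟩ := exists_member hG h𝓐 (det_dia a ha)
  -- each special subgroup is the unique one above some member other than `As`
  have key : ∀ H, IsSpecial r H → ∃ A ∈ 𝓐.erase As, lift A ≤ H ∧
      ∀ H', IsSpecial r H' → lift A ≤ H' → H' = H := by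
    rintro H (⟨w, hw, rfl⟩ | ⟨t, htd, hto, rfl⟩)
    · obtain ⟨u, hud, hup, hufix, hus⟩ : ∃ u : GL (Fin 2) F,
          (u : Matrix (Fin 2) (Fin 2) F).det = 1 ∧ u ^ p ^ 2 = 1 ∧
          (∀ v, (u : Matrix (Fin 2) (Fin 2) F) *ᵥ v = v → ∃ c : F, v = c • w) ∧
          ∀ K : Subgroup (GL (Fin 2) F), Group.IsNilpotent K → K ≤ lineStab w → u ∈ K → s ∈ K →
            False := by
        by_cases hw1 : w 1 = 0
        · have hw0 : w 0 ≠ 0 := fun h => hw (by ext i; fin_cases i <;> simp [h, hw1])
          refine ⟨upT 1, det_upT 1, upT_pow 1, fun v hv => ⟨v 0 / w 0, ?_⟩, ?_⟩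
          · ext i; fin_cases i <;> simp [hw0, hw1, upT_fix hv]
          · intro K hK _ huK hsK
            haveI := hK
            refine not_nilpotent_pair K upT (fun b hb => ?_) huK hsK (c := 1 - a * a)
              (sub_ne_zero.mpr (Ne.symm ha2)) (fun b => ?_)
            · simpa [upT] using congrArg (fun g : GL (Fin 2) F => (g : Matrix (Fin 2) (Fin 2) F) 0 1) hb
            · rw [commutatorElement_def, mul_inv_eq_iff_eq_mul, mul_inv_eq_iff_eq_mul]
              refine Units.ext ?_
              ext i j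
              fin_cases i <;> fin_cases j <;>
                simp [hs, dia, upT, Matrix.mul_apply, Fin.sum_univ_two] <;> field_simp <;> ring
        · by_cases hw0 : w 0 = 0
          · refine ⟨lowT 1, det_lowT 1, lowT_pow 1, fun v hv => ⟨v 1 / w 1, ?_⟩, ?_⟩
            · ext i; fin_cases i <;> simp [hw0, hw1, lowT_fix hv]
            · intro K hK _ huK hsK
              haveI := hK
              have hc : 1 - a⁻¹ * a⁻¹ ≠ 0 := by
                refine sub_ne_zero.mpr fun h => ha2 ?_
                field_simp at h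
                rw [← sq]; exact h
              refine not_nilpotent_pair K lowT (fun b hb => ?_) huK hsK hc (fun b => ?_)
              · simpa [lowT] using
                  congrArg (fun g : GL (Fin 2) F => (g : Matrix (Fin 2) (Fin 2) F) 1 0) hb
              · rw [commutatorElement_def, mul_inv_eq_iff_eq_mul, mul_inv_eq_iff_eq_mul]
                refine Units.ext ?_
                ext i j
                fin_cases i <;> fin_cases j <;>
                  simp [hs, dia, lowT, Matrix.mul_apply, Fin.sum_univ_two] <;> field_simp <;> ring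
          · set g := GeneralLinearGroup.mkOfDetNeZero !![w 0, 0; w 1, 1]
              (by simp [Matrix.det_fin_two, hw0]) with hg
            refine ⟨g * upT 1 * g⁻¹, ?_, ?_, fun v hv => ?_, ?_⟩
            · rw [Units.val_mul, Units.val_mul, Matrix.det_units_conj, det_upT]
            · rw [conj_pow, upT_pow, mul_one, mul_inv_cancel]
            · set v' := ((g⁻¹ : GL (Fin 2) F) : Matrix (Fin 2) (Fin 2) F) *ᵥ v with hv'
              have h1 : (upT (1 : F) : Matrix (Fin 2) (Fin 2) F) *ᵥ v' = v' := by
                rw [hv']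
                conv_rhs => rw [← hv, mulVec_mulVec, ← Units.val_mul]
                rw [mulVec_mulVec, ← Units.val_mul, show g⁻¹ * (g * upT 1 * g⁻¹) = upT 1 * g⁻¹ by group]
              have h2 : v = (g : Matrix (Fin 2) (Fin 2) F) *ᵥ v' := by
                rw [hv', mulVec_mulVec, ← Units.val_mul, mul_inv_cancel, Units.val_one, one_mulVec]
              refine ⟨v' 0, ?_⟩
              rw [h2]
              ext i
              fin_cases i <;>
                simp [hg, GeneralLinearGroup.mkOfDetNeZero, mulVec, dotProduct, Fin.sum_univ_two,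
                  upT_fix h1, mul_comm]
            · intro K _ hKw _ hsK
              obtain ⟨c, hc⟩ := hKw hsK
              have h0 := congrFun hc 0
              have h1 := congrFun hc 1
              simp [hs, dia, mulVec, dotProduct, Fin.sum_univ_two, hw0] at h0 h1
              apply ha2
              field_simp at h1
              rcases h1 with h1 | h1
              · rw [h0] at h1 ⊢; linear_combination -h1
              · exact absurd h1 hw1
      obtain ⟨A, hA, huA⟩ := exists_member hG h𝓐 hud
      haveI := isNilpotent_lift A (hnil A hA)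
      have hle := le_lineStab (lift A) huA hup hufix
      refine ⟨A, Finset.mem_erase.mpr ⟨?_, hA⟩, hle, ?_⟩
      · rintro rfl; exact hus _ inferInstance hle huA hsA
      · rintro H' (⟨w', hw', rfl⟩ | ⟨t, htd, hto, rfl⟩) hle'
        · obtain ⟨c, hc⟩ := hle' huA
          have hpm : (u : Matrix (Fin 2) (Fin 2) F) ^ p ^ 2 = 1 := by
            rw [← Units.val_pow_eq_pow_val, hup, Units.val_one]
          rw [eigenvalue_eq_one hpm hw' hc, one_smul] at hc
          obtain ⟨d, rfl⟩ := hufix w' hc
          exact lineStab_smul w (fun h => hw' (by rw [h, zero_smul]))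
        · exfalso
          have hne := noEigen_of_orderOf (p := p) hr hto htd hrq hrp
          have hcm : (u : Matrix (Fin 2) (Fin 2) F) * (t : Matrix (Fin 2) (Fin 2) F) =
              (t : Matrix (Fin 2) (Fin 2) F) * (u : Matrix (Fin 2) (Fin 2) F) :=
            congrArg Units.val (Subgroup.mem_centralizer_singleton_iff.mp (hle' huA))
          obtain ⟨c, hc⟩ := hle huA
          have hpm : (u : Matrix (Fin 2) (Fin 2) F) ^ p ^ 2 = 1 := by
            rw [← Units.val_pow_eq_pow_val, hup, Units.val_one]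
          rw [eigenvalue_eq_one hpm hw hc, one_smul] at hc
          obtain ⟨d, hd⟩ := hufix ((t : Matrix (Fin 2) (Fin 2) F) *ᵥ w)
            (by rw [mulVec_mulVec, hcm, ← mulVec_mulVec, hc])
          exact hw (hne w d hd)
    · have hne := noEigen_of_orderOf (p := p) hr hto htd hrq hrp
      obtain ⟨A, hA, htA⟩ := exists_member hG h𝓐 htd
      haveI := isNilpotent_lift A (hnil A hA)
      have hle : lift A ≤ Subgroup.centralizer ({t} : Set (GL (Fin 2) F)) := by
        refine le_centralizer_of_conj (lift A) htA ?_ ?_ (fun x _ hc => conj_eq_or_inv htd hne hc)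
        · rw [hto]; exact hr.odd_of_ne_two hr2
        · intro h; rw [h, orderOf_one] at hto; exact hr.ne_one hto.symm
      refine ⟨A, Finset.mem_erase.mpr ⟨?_, hA⟩, hle, ?_⟩
      · rintro rfl
        have hcm : Commute t (dia a ha) :=
          (Subgroup.mem_centralizer_singleton_iff.mp (hle hsA)).symm
        obtain ⟨-, h10⟩ := offdiag_of_comm ha ha2 hcm
        have h := hne ![1, 0] ((t : Matrix (Fin 2) (Fin 2) F) 0 0) (by
          ext i; fin_cases i <;> simp [mulVec, dotProduct, Fin.sum_univ_two, h10])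
        simpa using congrFun h 0
      · rintro H' (⟨w', hw', rfl⟩ | ⟨t', htd', hto', rfl⟩) hle'
        · exfalso
          obtain ⟨c, hc⟩ := hle' htA
          exact hw' (hne w' c hc)
        · have hne' := noEigen_of_orderOf (p := p) hr hto' htd' hrq hrp
          have htt : Commute (t : Matrix (Fin 2) (Fin 2) F) (t' : Matrix (Fin 2) (Fin 2) F) :=
            congrArg Units.val (Subgroup.mem_centralizer_singleton_iff.mp (hle' htA))
          ext x
          simp only [Subgroup.mem_centralizer_singleton_iff]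
          constructor <;> intro hx
          · exact Units.ext (comm_of_comm hne' (congrArg Units.val hx) htt).eq
          · exact Units.ext (comm_of_comm hne (congrArg Units.val hx) htt.symm).eq
  -- the cheaper cover
  set S := (𝓐.erase As).filter (fun A => ∃ H, IsSpecial r H ∧ lift A ≤ H) with hS
  set f : Subgroup G → Subgroup G := fun A =>
    if h : ∃ H, IsSpecial r H ∧ lift A ≤ H then res G h.choose else ⊥ with hf
  have hcov : (∀ C ∈ S.image f, C ≠ ⊤) ∧ ∀ g : G, ∃ C ∈ S.image f, g ∈ C := by
    refine ⟨fun C hC => ?_, fun g => ?_⟩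
    · obtain ⟨A, hA, rfl⟩ := Finset.mem_image.mp hC
      have h := (Finset.mem_filter.mp hA).2
      simp only [hf, dif_pos h]
      rcases h.choose_spec.1 with ⟨w, hw, hH⟩ | ⟨t, htd, hto, hH⟩
      · rw [hH]
        have hz := center_le_lineStab w
        by_cases h1 : upT (1 : F) ∈ lineStab w
        · by_cases h2 : lowT (1 : F) ∈ lineStab w
          · exfalso
            obtain ⟨c, hc⟩ := h1
            obtain ⟨d, hd⟩ := h2
            have hu1 : (upT (1 : F) : Matrix (Fin 2) (Fin 2) F) ^ p ^ 2 = 1 := by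
              rw [← Units.val_pow_eq_pow_val, upT_pow, Units.val_one]
            have hu2 : (lowT (1 : F) : Matrix (Fin 2) (Fin 2) F) ^ p ^ 2 = 1 := by
              rw [← Units.val_pow_eq_pow_val, lowT_pow, Units.val_one]
            rw [eigenvalue_eq_one hu1 hw hc, one_smul] at hc
            rw [eigenvalue_eq_one hu2 hw hd, one_smul] at hd
            exact hw (by ext i; fin_cases i <;> simp [upT_fix hc, lowT_fix hd])
          · exact res_ne_top hG hz (det_lowT 1) h2
        · exact res_ne_top hG hz (det_upT 1) h1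
      · rw [hH]
        refine res_ne_top hG (Subgroup.center_le_centralizer _) (det_upT 1) fun hT => ?_
        have hne := noEigen_of_orderOf (p := p) hr hto htd hrq hrp
        have hcm : (upT (1 : F) : Matrix (Fin 2) (Fin 2) F) * (t : Matrix (Fin 2) (Fin 2) F) =
            (t : Matrix (Fin 2) (Fin 2) F) * (upT (1 : F) : Matrix (Fin 2) (Fin 2) F) :=
          congrArg Units.val (Subgroup.mem_centralizer_singleton_iff.mp hT)
        have he : (upT (1 : F) : Matrix (Fin 2) (Fin 2) F) *ᵥ ![1, 0] = ![1, 0] := by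
          ext i; fin_cases i <;> simp [upT, mulVec, dotProduct, Fin.sum_univ_two]
        have h1 : ((t : Matrix (Fin 2) (Fin 2) F) *ᵥ ![1, 0]) 1 = 0 :=
          upT_fix (by rw [mulVec_mulVec, hcm, ← mulVec_mulVec, he])
        have h2 := hne ![1, 0] ((t : Matrix (Fin 2) (Fin 2) F) 0 0) (by
          ext i; fin_cases i
          · simp [mulVec, dotProduct, Fin.sum_univ_two]
          · simpa [mulVec, dotProduct, Fin.sum_univ_two] using h1)
        simpa using congrFun h2 0
    · obtain ⟨x, hx⟩ := QuotientGroup.mk'_surjective (Subgroup.center (GL (Fin 2) F))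
        (g : GL (Fin 2) F ⧸ _)
      obtain ⟨H, hH, hxH⟩ : ∃ H, IsSpecial r H ∧ x ∈ H := by
        by_cases hne : NoEigen (x : Matrix (Fin 2) (Fin 2) F)
        · have hdvd' : r ∣ Nat.card (Subgroup.centralizer ({x} : Set (GL (Fin 2) F))) := by
            rw [card_centralizer hne, show Nat.card F ^ 2 - 1 =
              (Nat.card F + 1) * (Nat.card F - 1) from Nat.sq_sub_sq (Nat.card F) 1]
            exact dvd_mul_of_dvd_left hdvd _
          obtain ⟨⟨t, htc⟩, hto⟩ := exists_prime_orderOf_dvd_card' r hdvd'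
          rw [← Subgroup.orderOf_coe] at hto
          change orderOf t = r at hto
          have htd : (t : Matrix (Fin 2) (Fin 2) F).det = 1 := by
            set d := (t : Matrix (Fin 2) (Fin 2) F).det with hd
            have h1 : d ^ r = 1 := by
              rw [hd, ← det_pow, ← Units.val_pow_eq_pow_val, ← hto, pow_orderOf_eq_one,
                Units.val_one, det_one]
            have hd0 : d ≠ 0 := fun h => by
              rw [h, zero_pow hr.ne_zero] at h1; exact zero_ne_one h1
            have h2 := (pow_gcd_eq_one (m := r) (n := Fintype.card F - 1)).mpr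
              ⟨h1, FiniteField.pow_card_sub_one_eq_one d hd0⟩
            rwa [(hr.coprime_iff_not_dvd.mpr
              (by rwa [← Nat.card_eq_fintype_card])).gcd_eq_one, pow_one] at h2
          exact ⟨_, Or.inr ⟨t, htd, hto, rfl⟩, Subgroup.mem_centralizer_singleton_iff.mpr
            (Subgroup.mem_centralizer_singleton_iff.mp htc).symm⟩
        · simp only [NoEigen, not_forall] at hne
          obtain ⟨v, c, hc, hv⟩ := hne
          exact ⟨_, Or.inl ⟨v, hv, rfl⟩, c, hc⟩
      obtain ⟨A, hA, hAH, huniq⟩ := key H hH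
      have hex : ∃ H, IsSpecial r H ∧ lift A ≤ H := ⟨H, hH, hAH⟩
      refine ⟨f A, Finset.mem_image_of_mem f (Finset.mem_filter.mpr ⟨hA, hex⟩), ?_⟩
      simp only [hf, dif_pos hex]
      rw [huniq _ hex.choose_spec.1 hex.choose_spec.2]
      exact ⟨x, hxH, hx⟩
  have h1 := h𝓐.2 _ hcov
  have h2 : (S.image f).card ≤ (𝓐.erase As).card :=
    Finset.card_image_le.trans (Finset.card_filter_le _ _)
  have h3 := Finset.card_erase_lt_of_mem hAs
  omega

include hG h𝓐 hnil in
theorem no_cover_plane (hq : 4 ≤ Nat.card F) : False := by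
  classical
  cases nonempty_fintype F
  obtain ⟨p, _⟩ := CharP.exists F
  haveI : Fact p.Prime := ⟨CharP.char_is_prime F p⟩
  rcases Nat.eq_two_pow_or_exists_odd_prime_and_dvd (Nat.card F - 1) with ⟨i, hi⟩ | ⟨r, hr, hd, ho⟩
  · rcases Nat.eq_two_pow_or_exists_odd_prime_and_dvd (Nat.card F + 1) with ⟨j, hj⟩ | ⟨r, hr, hd, ho⟩
    · exfalso
      have hi2 : 2 ≤ i := by
        by_contra h
        interval_cases i <;> omega
      have hj2 : 2 ≤ j := by
        by_contra h
        interval_cases j <;> omega
      have h4 : 4 ∣ Nat.card F + 1 := hj ▸ (pow_dvd_pow 2 hj2 : 2 ^ 2 ∣ 2 ^ j)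
      have h4' : 4 ∣ Nat.card F - 1 := hi ▸ (pow_dvd_pow 2 hi2 : 2 ^ 2 ∣ 2 ^ i)
      omega
    · exact false_of_dvd_add_one hG h𝓐 hnil (p := p) hr (fun h => by
        subst h; exact absurd ho (by decide)) hd hq
  · exact false_of_dvd_sub_one hG h𝓐 hnil (p := p) hr (fun h => by
      subst h; exact absurd ho (by decide)) hd

end Cfsg.Agent.Lib.PGLNilCover
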