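import Cfsg.Agent.Lib.PGLNilCover.Basic

/-!
# Two-dimensional case: elements without eigenvectors
-/

set_option autoImplicit false

namespace Cfsg.Agent.Lib.PGLNilCover

open Matrix

variable {F : Type*} [Field F]

/-- No eigenvector in the plane. -/
def NoEigen (M : Matrix (Fin 2) (Fin 2) F) : Prop :=
  ∀ (v : Fin 2 → F) (c : F), M *ᵥ v = c • v → v = 0

theorem cayley_two (M : Matrix (Fin 2) (Fin 2) F) : M * M - M.trace • M + M.det • 1 = 0 := by
  ext i j
  fin_cases i <;> fin_cases j <;>
    simp [Matrix.mul_apply, Fin.sum_univ_two, Matrix.trace, Matrix.det_fin_two] <;> ring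

theorem exists_coords {M : Matrix (Fin 2) (Fin 2) F} (hM : NoEigen M) {v : Fin 2 → F} (hv : v ≠ 0)
    (x : Fin 2 → F) : ∃ a b : F, x = a • v + b • (M *ᵥ v) := by
  have hli : LinearIndependent F ![v, M *ᵥ v] := by
    rw [LinearIndependent.pair_iff]
    intro a b hab
    by_cases hb : b = 0
    · subst hb
      refine ⟨?_, rfl⟩
      simpa [hv] using hab
    · refine absurd (hM v (-(b⁻¹ * a)) ?_) hv
      have h1 : b • (M *ᵥ v) = -(a • v) := eq_neg_of_add_eq_zero_right hab
      rw [← inv_smul_smul₀ hb (M *ᵥ v), h1, smul_neg, smul_smul, neg_smul]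
  have hspan := hli.span_eq_top_of_card_eq_finrank (by simp)
  have hx : x ∈ Submodule.span F (Set.range ![v, M *ᵥ v]) := by rw [hspan]; trivial
  rw [Matrix.range_cons, Matrix.range_cons, Matrix.range_empty, Set.union_empty,
    Set.singleton_union, Submodule.mem_span_pair] at hx
  obtain ⟨a, b, hab⟩ := hx
  exact ⟨a, b, hab.symm⟩

/-- A matrix commuting with one without eigenvectors is zero once it kills a vector. -/
theorem eq_zero_of_comm {M N : Matrix (Fin 2) (Fin 2) F} (hM : NoEigen M) (hc : Commute N M)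
    {v : Fin 2 → F} (hv : v ≠ 0) (hN : N *ᵥ v = 0) : N = 0 := by
  refine Matrix.ext_of_mulVec_single fun i => ?_
  obtain ⟨a, b, hab⟩ := exists_coords hM hv (Pi.single i 1)
  rw [hab, mulVec_add, mulVec_smul, mulVec_smul, hN, mulVec_mulVec, hc.eq, ← mulVec_mulVec, hN,
    mulVec_zero, smul_zero, smul_zero, add_zero, zero_mulVec]

theorem exists_eq_linear {M N : Matrix (Fin 2) (Fin 2) F} (hM : NoEigen M) (hc : Commute N M) :
    ∃ a b : F, N = a • 1 + b • M := by
  have hv : (Pi.single 0 1 : Fin 2 → F) ≠ 0 := by simp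
  obtain ⟨a, b, hab⟩ := exists_coords hM hv (N *ᵥ Pi.single 0 1)
  refine ⟨a, b, sub_eq_zero.mp (eq_zero_of_comm hM ?_ hv ?_)⟩
  · exact hc.sub_left ((((Commute.one_left M).smul_left a)).add_left ((Commute.refl M).smul_left b))
  · rw [sub_mulVec, add_mulVec, smul_mulVec, smul_mulVec, one_mulVec, hab, sub_self]

theorem comm_of_comm {M N N' : Matrix (Fin 2) (Fin 2) F} (hM : NoEigen M) (h : Commute N M)
    (h' : Commute N' M) : Commute N N' := by
  obtain ⟨a, b, rfl⟩ := exists_eq_linear hM h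
  exact ((Commute.one_left N').smul_left a).add_left (h'.symm.smul_left b)

/-- The centraliser of an element without eigenvectors has order `q ^ 2 - 1`. -/
theorem card_centralizer [Finite F] {g : GL (Fin 2) F} (hg : NoEigen (g : Matrix (Fin 2) (Fin 2) F)) :
    Nat.card (Subgroup.centralizer ({g} : Set (GL (Fin 2) F))) = Nat.card F ^ 2 - 1 := by
  classical
  cases nonempty_fintype F
  set v : Fin 2 → F := Pi.single 0 1
  have hv : v ≠ 0 := by simp [v]
  have hcomm : ∀ h : Subgroup.centralizer ({g} : Set (GL (Fin 2) F)),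
      Commute ((h : GL (Fin 2) F) : Matrix (Fin 2) (Fin 2) F) (g : Matrix (Fin 2) (Fin 2) F) :=
    fun h => congrArg Units.val (Subgroup.mem_centralizer_singleton_iff.mp h.2)
  have hne : ∀ h : Subgroup.centralizer ({g} : Set (GL (Fin 2) F)),
      ((h : GL (Fin 2) F) : Matrix (Fin 2) (Fin 2) F) *ᵥ v ≠ 0 := fun h h0 => by
    have h1 := eq_zero_of_comm hg (hcomm h) hv h0
    have h2 := (h : GL (Fin 2) F).inv_mul
    rw [h1, mul_zero] at h2
    exact zero_ne_one h2
  let f : Subgroup.centralizer ({g} : Set (GL (Fin 2) F)) → {x : Fin 2 → F // x ≠ 0} :=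
    fun h => ⟨((h : GL (Fin 2) F) : Matrix (Fin 2) (Fin 2) F) *ᵥ v, hne h⟩
  have hf : Function.Bijective f := by
    refine ⟨fun h h' e => ?_, fun ⟨x, hx⟩ => ?_⟩
    · refine Subtype.ext (Units.ext (sub_eq_zero.mp
        (eq_zero_of_comm hg ((hcomm h).sub_left (hcomm h')) hv ?_)))
      rw [sub_mulVec, sub_eq_zero]
      exact congrArg Subtype.val e
    · obtain ⟨a, b, hab⟩ := exists_coords hg hv x
      set N : Matrix (Fin 2) (Fin 2) F := a • 1 + b • (g : Matrix (Fin 2) (Fin 2) F) with hN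
      have hNc : Commute N (g : Matrix (Fin 2) (Fin 2) F) :=
        ((Commute.one_left _).smul_left a).add_left ((Commute.refl _).smul_left b)
      have hNv : N *ᵥ v = x := by rw [hN, add_mulVec, smul_mulVec, smul_mulVec, one_mulVec, hab]
      have hdet : N.det ≠ 0 := fun h0 => by
        obtain ⟨y, hy, hNy⟩ := Matrix.exists_mulVec_eq_zero_iff.mpr h0
        exact hx (by rw [← hNv, eq_zero_of_comm hg hNc hy hNy, zero_mulVec])
      refine ⟨⟨GeneralLinearGroup.mkOfDetNeZero N hdet, ?_⟩, Subtype.ext hNv⟩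
      rw [Subgroup.mem_centralizer_singleton_iff]
      exact Units.ext hNc.eq
  rw [Nat.card_congr (Equiv.ofBijective f hf), Nat.card_eq_fintype_card, Fintype.card_subtype_compl,
    Fintype.card_subtype_eq, Fintype.card_fun, Fintype.card_fin, Nat.card_eq_fintype_card]

/-- Determinant `1` and order coprime to `q (q - 1)`: no eigenvector. -/
theorem noEigen_of_orderOf [Finite F] {p : ℕ} [Fact p.Prime] [CharP F p] {t : GL (Fin 2) F} {r : ℕ}
    (hr : r.Prime) (ht : orderOf t = r) (hdet : (t : Matrix (Fin 2) (Fin 2) F).det = 1)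
    (hrq : ¬ r ∣ Nat.card F - 1) (hrp : r ≠ p) : NoEigen (t : Matrix (Fin 2) (Fin 2) F) := by
  cases nonempty_fintype F
  set M : Matrix (Fin 2) (Fin 2) F := (t : Matrix (Fin 2) (Fin 2) F) with hM
  have hMr : M ^ r = 1 := by
    rw [hM, ← Units.val_pow_eq_pow_val, ← ht, pow_orderOf_eq_one, Units.val_one]
  intro v c hc
  by_contra hv
  have h : ∀ m : ℕ, (M ^ m) *ᵥ v = c ^ m • v := fun m => by
    induction m with
    | zero => simp
    | succ m ih => rw [pow_succ, ← mulVec_mulVec, hc, mulVec_smul, ih, smul_smul, pow_succ']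
  have hcr : c ^ r = 1 := by
    have h1 := h r
    rw [hMr, one_mulVec] at h1
    exact smul_left_injective F hv (by simpa using h1.symm)
  have hc0 : c ≠ 0 := fun h0 => by rw [h0, zero_pow hr.ne_zero] at hcr; exact zero_ne_one hcr
  have hc1 : c = 1 := by
    have h2 := (pow_gcd_eq_one (m := r) (n := Fintype.card F - 1)).mpr ⟨hcr, FiniteField.pow_card_sub_one_eq_one c hc0⟩
    rw [(hr.coprime_iff_not_dvd.mpr (by rwa [← Nat.card_eq_fintype_card])).gcd_eq_one, pow_one] at h2
    exact h2
  subst hc1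
  rw [one_smul] at hc
  have htr : M.trace = 2 := by
    have h1 := congrArg (fun N : Matrix (Fin 2) (Fin 2) F => N *ᵥ v) (cayley_two M)
    rw [show M.det = 1 from hdet] at h1
    simp only [add_mulVec, sub_mulVec, smul_mulVec, one_mulVec, zero_mulVec, ← mulVec_mulVec, hc,
      one_smul] at h1
    have h2 : (2 - M.trace) • v = 0 := by
      rw [sub_smul, two_smul]
      exact (by abel : v + v - M.trace • v = v - M.trace • v + v).trans h1
    exact (sub_eq_zero.mp ((smul_eq_zero.mp h2).resolve_right hv)).symm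
  have hN : (M - 1) ^ 2 = 0 := by
    have h1 := cayley_two M
    rw [show M.det = 1 from hdet, htr, one_smul, two_smul] at h1
    rw [← h1]
    noncomm_ring
  have hMp := pow_eq_one_of_sub_one_pow (p := p) hN
  have h3 : orderOf t ∣ p ^ 2 := orderOf_dvd_of_pow_eq_one (Units.ext (by
    rw [Units.val_pow_eq_pow_val, Units.val_one]; exact hMp))
  rw [ht] at h3
  exact hrp ((Nat.prime_dvd_prime_iff_eq hr Fact.out).mp (hr.dvd_of_dvd_pow h3))

/-- A conjugate commuting with `t` of determinant `1` is `t` or its inverse. -/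
theorem conj_eq_or_inv {t x : GL (Fin 2) F} (hdet : (t : Matrix (Fin 2) (Fin 2) F).det = 1)
    (ht : NoEigen (t : Matrix (Fin 2) (Fin 2) F)) (hc : Commute (x * t * x⁻¹) t) :
    x * t * x⁻¹ = t ∨ x * t * x⁻¹ = t⁻¹ := by
  set M : Matrix (Fin 2) (Fin 2) F := (t : Matrix (Fin 2) (Fin 2) F) with hM
  set N : Matrix (Fin 2) (Fin 2) F := ((x * t * x⁻¹ : GL (Fin 2) F) : Matrix (Fin 2) (Fin 2) F) with hN
  have hNM : Commute N M := congrArg Units.val hc.eq
  have htr : N.trace = M.trace := by
    rw [hN, Units.val_mul, Units.val_mul, Matrix.trace_units_conj]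
  have hdN : N.det = 1 := by
    rw [hN, Units.val_mul, Units.val_mul, Matrix.det_units_conj, ← hM, hdet]
  have h1 := cayley_two N
  have h2 := cayley_two M
  rw [htr, hdN, one_smul] at h1
  rw [hdet, one_smul] at h2
  set τ : F := M.trace
  have hA : (N - M) * (N - (τ • 1 - M)) = 0 := by
    have e : (N - M) * (N - (τ • (1 : Matrix (Fin 2) (Fin 2) F) - M)) =
        (N * N - τ • N + 1) - (M * M - τ • M + 1) + (N * M - M * N) := by
      simp only [mul_sub, sub_mul, mul_smul_comm, mul_one, smul_sub]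
      abel
    rw [e, h1, h2, hNM.eq, sub_self, sub_self, add_zero]
  have hinv : ((t⁻¹ : GL (Fin 2) F) : Matrix (Fin 2) (Fin 2) F) = τ • 1 - M := by
    refine Units.inv_eq_of_mul_eq_one_right ?_
    rw [mul_sub, mul_smul_comm, mul_one, ← hM]
    have e : τ • M - M * M = 1 - (M * M - τ • M + 1) := by abel
    rw [e, h2, sub_zero]
  by_cases hz : N - M = 0
  · exact Or.inl (Units.ext (sub_eq_zero.mp hz))
  right
  refine Units.ext ?_
  rw [hinv, ← hN]
  have hv : (Pi.single 0 1 : Fin 2 → F) ≠ 0 := by simp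
  refine sub_eq_zero.mp (eq_zero_of_comm ht (hNM.sub_left (((Commute.one_left M).smul_left τ).sub_left
    (Commute.refl M))) hv ?_)
  by_contra hy
  apply hz
  refine eq_zero_of_comm ht (hNM.sub_left (Commute.refl M)) hy ?_
  rw [mulVec_mulVec, hA, zero_mulVec]

end Cfsg.Agent.Lib.PGLNilCover
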